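import Cfsg.Agent.H849.RIM.DzCount
import Cfsg.Agent.H852.QA.RowO8
import Cfsg.Agent.H665.RIM.Defs
import Cfsg.Agent.H858.NormC

/-!
# S4816, the row `(Ω₈⁺(2), 7)` (helper88)

`nball_seven` : `NBall 7 S` for `S ≅ PΩ₈⁺(2)`: eight classes of elements of odd order (`H852.QA.O8.cl`), `|C(y)| = 7` for `y` of
order seven, the kernel of a perfect central extension has order dividing four.
-/

set_option autoImplicit false
set_option maxRecDepth 4000

namespace Cfsg.Agent.H88.RIM

open Cfsg Subgroup Cfsg.Agent.H665.RIM Cfsg.Agent.StdO8.Model Cfsg.Agent.StdO8.Code Cfsg.Agent.H852.QA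
  Cfsg.Agent.H849.RIM

universe u

/-- the kernel of a perfect central extension of `Ω₈⁺(2)`, in any universe -/
theorem card_ker_dvd {S E : Type u} [Group S] [Group E] [Finite E] (e : S ≃* Om) (π : E →* S)
    (hs : Function.Surjective π) (hc : π.ker ≤ center E) (hp : commutator E = ⊤) : Nat.card π.ker ∣ 4 := by
  have : Small.{0} E := Countable.toSmall E
  let s : Shrink.{0} E ≃* E := Shrink.mulEquiv
  have hfin : Finite (Shrink.{0} E) := Finite.of_equiv _ s.symm.toEquiv
  let π' : Shrink.{0} E →* Om := (e.toMonoidHom.comp π).comp s.toMonoidHom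
  have hker : π'.ker = π.ker.comap s.toMonoidHom := by
    ext g
    rw [MonoidHom.mem_ker, mem_comap, MonoidHom.mem_ker]
    exact map_eq_one_iff e e.injective
  have hcov : H80.Fpf.IsCover π' := by
    refine ⟨(e.surjective.comp hs).comp s.surjective, ?_, ?_⟩
    · intro g hg
      rw [hker, mem_comap] at hg
      have h1 := hc hg
      rw [mem_center_iff] at h1 ⊢
      intro x
      apply s.injective
      rw [map_mul, map_mul]
      exact h1 (s x)
    · have h1 : (commutator (Shrink.{0} E)).map s.toMonoidHom = ⊤ := by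
        rw [commutator_def, map_commutator, Subgroup.map_top_of_surjective _ s.surjective, ← commutator_def, hp]
      rw [eq_top_iff]
      intro x _
      have h2 : s x ∈ (commutator (Shrink.{0} E)).map s.toMonoidHom := by rw [h1]; exact mem_top _
      obtain ⟨y, hy, hxy⟩ := h2
      rwa [← s.injective hxy]
  have h1 := mult_om hcov
  rw [hker] at h1
  have h2 : Nat.card (π.ker.comap s.toMonoidHom) = Nat.card π.ker :=
    Nat.card_congr (Equiv.subtypeEquiv s.toEquiv fun _ => Iff.rfl)
  rwa [h2] at h1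

/-- **The row.** -/
theorem nball_seven_om {S : Type u} [Group S] (e : S ≃* Om) : NBall 7 S := by
  intro m _ _ E _ _ π hs hc hp hm l _
  have h4 := card_ker_dvd e π hs hc hp
  have : Fact (Nat.Prime 7) := ⟨by norm_num⟩
  have hf := fct_om
  let ε : (E ⧸ π.ker) ≃* Om := (QuotientGroup.quotientKerEquivOfSurjective π hs).trans e
  have hfE : H320.O8.Fct (E ⧸ π.ker) := hf.congr ε
  have hy : orderOf (ε.symm (word (O8.cl 7))) = 7 := by
    rw [← ε.orderOf_eq, ε.apply_symm_apply]
    exact O8.orderOf_cl 7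
  have h7 : ¬ 7 ∣ Nat.card π.ker := fun h => by
    have := (Nat.le_of_dvd (by norm_num) (h.trans h4))
    omega
  have hC := hfE.c7 _ hy
  obtain ⟨w, hw, hN⟩ := H858.NormC.exists_card_normalizer_prime (p := 7) (by norm_num)
    (P := zpowers (ε.symm (word (O8.cl 7)))) (by rw [Nat.card_zpowers, hy])
  rw [H858.NormC.centralizer_zpowers, hC] at hN
  have hw6 : w ≤ 6 := Nat.le_of_dvd (by norm_num) hw
  have hw0 : 0 < w := Nat.pos_of_dvd_of_pos hw (by norm_num)
  classical
  let F : Finset (ConjClasses (E ⧸ π.ker)) := Finset.univ.image fun i : Fin 8 =>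
    ConjClasses.mk (ε.symm (word (O8.cl i)))
  have hF : F.card = 8 := by
    rw [Finset.card_image_of_injective, Finset.card_univ, Fintype.card_fin]
    intro i j hij
    have h1 := ConjClasses.mk_eq_mk_iff_isConj.1 hij
    have h2 := MonoidHom.map_isConj ε.toMonoidHom h1
    apply O8.cl_inj
    simpa using h2
  obtain ⟨χ, hχ, hd⟩ := exists_dz_quot (p := 7) hc h7 (by rw [hfE.card]; norm_num) hy (k := 1) (w := w)
    (by rw [hC]) (by rw [hN]) l F (fun C hC => by
      obtain ⟨i, _, rfl⟩ := Finset.mem_image.1 hC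
      refine ⟨_, rfl, ?_⟩
      rw [← ε.orderOf_eq, ε.apply_symm_apply, O8.orderOf_cl]
      have h8 : ∀ i : Fin 8, (O8.ex i).Coprime 4 := by decide
      exact Nat.Coprime.coprime_dvd_right h4 (h8 i)) (by
      rw [hF]
      interval_cases w <;> norm_num)
  exact ⟨χ, χ.2, fun z => by simpa using hχ 1 z, hd⟩

/-- **The row, for `PΩ₈⁺(2)`.** -/
theorem nball_seven {F : Type*} [Field F] [Fintype F] (hF : Fintype.card F = 2) {S : Type u} [Group S]
    (e : Nonempty (S ≃* Cfsg.POmega F (Cfsg.quadFormPlus 4 F))) : NBall 7 S := by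
  obtain ⟨e⟩ := e
  obtain ⟨e'⟩ := exists_equiv hF
  exact nball_seven_om (e.trans e')

end Cfsg.Agent.H88.RIM
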