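import Cfsg.Agent.H588.RIM.KZero

/-!
# S4816, the row `(Ω₈⁺(2), 5)`: the pointwise stabilizer of `A₄` in `W(E₈)'` is `Alt 5` (helper88)

`X i` (`i < 5`) are the five roots that have inner products `0, -1, 0, 0` with `e₄, e₅, e₆, e₇`. The stabilizer of
`e₄, …, e₇` in `W` acts on them as the symmetric group, the determinant is the sign.
-/

set_option autoImplicit false
set_option maxRecDepth 10000

namespace Cfsg.Agent.H88.RIM

open Cfsg.Agent.OddHalf.D9.EEight Cfsg.Agent.OddHalf.D9.EEight.Id.Gen Cfsg.Agent.OddHalf.D9.EEight.Id.ModTwo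
  Cfsg.Agent.OddHalf.D9.EEight.Id.Onto
open Cfsg.Agent.H588.RIM.KZ (LX mem_LX)

/-- Every root is, up to sign, in the list. -/
theorem root_list {a : OddHalf.D9.EEight.Lat} (ha : IsRoot a) : ∃ n ∈ rts, a = dec n ∨ a = - dec n := by
  have h2 : qb (mo a) = 1 := by
    rw [qb_mo, q_root ha]
    decide
  obtain ⟨n, hn, h3⟩ := rts_cover _ h2
  refine ⟨n, hn, ?_⟩
  have h4 : red a = red (dec n) := by
    unfold red
    rw [h3]
  obtain ⟨u, hu⟩ := exists_of_red h4
  have g1 : form a a = 2 := ha
  have g2 : form (dec n) (dec n) = 2 := by rw [form_self, rts_root n hn]; norm_num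
  have g3 : form a a = form (dec n) (dec n) + 4 * form (dec n) u + 4 * form u u := by
    conv_lhs => rw [hu]
    rw [form_add_left, form_add_right, form_add_right, form_smul_left, form_smul_left,
      form_smul_right, form_smul_right, form_comm u (dec n)]; ring
  have h5 : form u u = 2 * q u := form_self u
  have h6 : 0 ≤ form u u := form_nonneg u
  have h7 : 0 ≤ form (a + dec n) (a + dec n) := form_nonneg _
  have h8 : form (a + dec n) (a + dec n) = 4 + 2 * form a (dec n) := by
    rw [form_add_left, form_add_right, form_add_right, g1, g2, form_comm (dec n)]; ring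
  have h9 : form a (dec n) = 2 + 2 * form (dec n) u := by
    conv_lhs => rw [hu]
    rw [form_add_left, form_smul_left, g2, form_comm u (dec n)]
  have h10 : form u u = 0 ∨ form u u = 2 := by omega
  rcases h10 with h | h
  · left
    rw [hu, eq_zero_of_form h.le, smul_zero, add_zero]
  · right
    have h11 : form (a + dec n) (a + dec n) ≤ 0 := by omega
    exact eq_neg_of_add_eq_zero_left (eq_zero_of_form h11)

/-- The five roots. -/
def X : Fin 5 → OddHalf.D9.EEight.Lat := ![![0, 1, 1, 2, 1, 0, 0, 0], ![1, 1, 1, 2, 1, 0, 0, 0], ![1, 1, 2, 2, 1, 0, 0, 0],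
  ![-1, -1, -2, -3, -3, -3, -2, -1], ![-1, -2, -2, -3, -3, -3, -2, -1]]

theorem X_inj : Function.Injective X := by decide

theorem form_X (i j : Fin 5) : form (X i) (X j) = if i = j then 2 else 1 := by
  rw [form_expl]
  revert i j
  decide

theorem form_X4 (i : Fin 5) : form (X i) (e 4) = 0 := by
  rw [form_expl]
  revert i
  decide

theorem form_X5 (i : Fin 5) : form (X i) (e 5) = -1 := by
  rw [form_expl]
  revert i
  decide

theorem form_X6 (i : Fin 5) : form (X i) (e 6) = 0 := by
  rw [form_expl]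
  revert i
  decide

theorem form_X7 (i : Fin 5) : form (X i) (e 7) = 0 := by
  rw [form_expl]
  revert i
  decide

theorem form_e4 (x : OddHalf.D9.EEight.Lat) : form x (e 4) = 2 * x 4 - x 3 - x 5 := by
  rw [form_expl]
  simp [e]

theorem form_e5 (x : OddHalf.D9.EEight.Lat) : form x (e 5) = 2 * x 5 - x 4 - x 6 := by
  rw [form_expl]
  simp [e]

theorem form_e6 (x : OddHalf.D9.EEight.Lat) : form x (e 6) = 2 * x 6 - x 5 - x 7 := by
  rw [form_expl]
  simp [e]

theorem form_e7 (x : OddHalf.D9.EEight.Lat) : form x (e 7) = 2 * x 7 - x 6 := by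
  rw [form_expl]
  simp [e]

theorem rts_pos : ∀ n ∈ rts, 2 * dec n 4 - dec n 3 - dec n 5 = 0 → 2 * dec n 5 - dec n 4 - dec n 6 = -1 →
    2 * dec n 6 - dec n 5 - dec n 7 = 0 → 2 * dec n 7 - dec n 6 = 0 → ∃ i, dec n = X i := by decide +kernel

theorem rts_neg : ∀ n ∈ rts, 2 * dec n 4 - dec n 3 - dec n 5 = 0 → 2 * dec n 5 - dec n 4 - dec n 6 = 1 →
    2 * dec n 6 - dec n 5 - dec n 7 = 0 → 2 * dec n 7 - dec n 6 = 0 → ∃ i, -dec n = X i := by decide +kernel

/-- The five roots are all the roots with these inner products. -/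
theorem eq_X {a : OddHalf.D9.EEight.Lat} (ha : IsRoot a) (h4 : form a (e 4) = 0) (h5 : form a (e 5) = -1)
    (h6 : form a (e 6) = 0) (h7 : form a (e 7) = 0) : ∃ i, a = X i := by
  obtain ⟨n, hn, rfl | rfl⟩ := root_list ha
  · rw [form_e4] at h4
    rw [form_e5] at h5
    rw [form_e6] at h6
    rw [form_e7] at h7
    exact rts_pos n hn h4 h5 h6 h7
  · rw [form_neg_left, form_e4] at h4
    rw [form_neg_left, form_e5] at h5
    rw [form_neg_left, form_e6] at h6
    rw [form_neg_left, form_e7] at h7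
    exact rts_neg n hn (by omega) (by omega) (by omega) (by omega)

/-- The stabilizer of simple roots in `W`. -/
def LW (I : Finset (Fin 8)) : Subgroup W where
  carrier := {w | ∀ i ∈ I, ap w (e i) = e i}
  one_mem' := fun i _ => ap_one _
  mul_mem' {a b} ha hb := fun i hi => by rw [ap_mul, hb i hi, ha i hi]
  inv_mem' {a} ha := fun i hi => by
    conv_lhs => rw [← ha i hi]
    rw [ap_inv_ap]

theorem mem_LW {I : Finset (Fin 8)} {w : W} : w ∈ LW I ↔ ∀ i ∈ I, ap w (e i) = e i := Iff.rfl

/-- The four simple roots of the `A₄`. -/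
abbrev I4 : Finset (Fin 8) := {4, 5, 6, 7}

theorem exists_X (w : LW I4) (i : Fin 5) : ∃ j, ap (w : W) (X i) = X j := by
  have h := mem_LW.1 w.2
  have h4 := h 4 (by decide)
  have h5 := h 5 (by decide)
  have h6 := h 6 (by decide)
  have h7 := h 7 (by decide)
  apply eq_X
  · apply isRoot_ap
    unfold IsRoot
    rw [form_X, if_pos rfl]
  · conv_lhs => rw [← h4]
    rw [form_ap, form_X4]
  · conv_lhs => rw [← h5]
    rw [form_ap, form_X5]
  · conv_lhs => rw [← h6]
    rw [form_ap, form_X6]
  · conv_lhs => rw [← h7]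
    rw [form_ap, form_X7]

/-- The action on the five roots. -/
noncomputable def act (w : LW I4) (i : Fin 5) : Fin 5 := (exists_X w i).choose

theorem ap_X (w : LW I4) (i : Fin 5) : ap (w : W) (X i) = X (act w i) := (exists_X w i).choose_spec

theorem act_one (i : Fin 5) : act 1 i = i := by
  apply X_inj
  rw [← ap_X, Subgroup.coe_one, ap_one]

theorem act_mul (v w : LW I4) (i : Fin 5) : act (v * w) i = act v (act w i) := by
  apply X_inj
  rw [← ap_X, ← ap_X, ← ap_X, Subgroup.coe_mul, ap_mul]

/-- The permutation representation on the five roots. -/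
noncomputable def phi : LW I4 →* Equiv.Perm (Fin 5) where
  toFun w := ⟨act w, act w⁻¹, fun i => by rw [← act_mul, inv_mul_cancel, act_one],
    fun i => by rw [← act_mul, mul_inv_cancel, act_one]⟩
  map_one' := Equiv.ext fun i => act_one i
  map_mul' v w := Equiv.ext fun i => act_mul v w i

theorem phi_apply (w : LW I4) (i : Fin 5) : phi w i = act w i := rfl

theorem e0_eq : e 0 = X 1 - X 0 := by decide

theorem e2_eq : e 2 = X 2 - X 1 := by decide

theorem e1_eq : e 1 = X 3 - X 4 := by decide

theorem e3_eq : e 3 = -X 3 - X 1 - (X 2 - X 1) - (2 : ℤ) • e 4 - (3 : ℤ) • e 5 - (2 : ℤ) • e 6 - e 7 := by decide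

theorem eq_one_of_e {w : W} (h : ∀ i, ap w (e i) = e i) : w = 1 := by
  have hx : ∀ x : OddHalf.D9.EEight.Lat, x = ∑ i, x i • e i := by
    intro x
    funext j
    rw [Finset.sum_apply]
    simp [e, Pi.single_apply]
  apply ext_ap
  intro x
  rw [ap_one, hx x, Fin.sum_univ_eight]
  simp only [ap_add, ap_smul, h]

theorem phi_inj : Function.Injective phi := by
  rw [injective_iff_map_eq_one]
  intro w hw
  apply Subtype.ext
  rw [Subgroup.coe_one]
  have hX : ∀ i, ap (w : W) (X i) = X i := by
    intro i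
    rw [ap_X, ← phi_apply, hw]
    rfl
  have h := mem_LW.1 w.2
  have h4 := h 4 (by decide)
  have h5 := h 5 (by decide)
  have h6 := h 6 (by decide)
  have h7 := h 7 (by decide)
  apply eq_one_of_e
  intro i
  fin_cases i
  · show ap (w : W) (e 0) = e 0
    rw [e0_eq, ap_sub, hX, hX]
  · show ap (w : W) (e 1) = e 1
    rw [e1_eq, ap_sub, hX, hX]
  · show ap (w : W) (e 2) = e 2
    rw [e2_eq, ap_sub, hX, hX]
  · show ap (w : W) (e 3) = e 3
    rw [e3_eq]
    simp only [ap_sub, ap_neg, ap_smul, hX, h4, h5, h6, h7]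
  · exact h4
  · exact h5
  · exact h6
  · exact h7

theorem isRoot_X_sub {i j : Fin 5} (h : i ≠ j) : IsRoot (X i - X j) := by
  unfold IsRoot
  rw [form_sub_left, form_sub_right, form_sub_right, form_X, form_X, form_X, form_X, if_pos rfl, if_neg h,
    if_neg h.symm, if_pos rfl]
  norm_num

theorem refl_X_mem {i j : Fin 5} (h : i ≠ j) : refl (isRoot_X_sub h) ∈ LW I4 := by
  rw [mem_LW]
  intro k hk
  rw [ap_refl]
  have h0 : form (e k) (X i - X j) = 0 := by
    rw [form_sub_right, form_comm (e k), form_comm (e k)]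
    simp only [I4, Finset.mem_insert, Finset.mem_singleton] at hk
    rcases hk with rfl | rfl | rfl | rfl
    · rw [form_X4, form_X4, sub_self]
    · rw [form_X5, form_X5, sub_self]
    · rw [form_X6, form_X6, sub_self]
    · rw [form_X7, form_X7, sub_self]
  rw [h0, zero_smul, sub_zero]

theorem phi_refl {i j : Fin 5} (h : i ≠ j) : phi ⟨refl (isRoot_X_sub h), refl_X_mem h⟩ = Equiv.swap i j := by
  apply Equiv.ext
  intro k
  rw [phi_apply]
  apply X_inj
  rw [← ap_X]
  show ap (refl (isRoot_X_sub h)) (X k) = _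
  rw [ap_refl, form_sub_right, form_X, form_X]
  by_cases hki : k = i
  · subst hki
    rw [Equiv.swap_apply_left, if_pos rfl, if_neg h, show (2 : ℤ) - 1 = 1 from rfl, one_smul, sub_sub_cancel]
  · by_cases hkj : k = j
    · subst hkj
      rw [Equiv.swap_apply_right, if_neg hki, if_pos rfl, show (1 : ℤ) - 2 = -1 from rfl, neg_smul, one_smul]
      abel
    · rw [Equiv.swap_apply_of_ne_of_ne hki hkj, if_neg hki, if_neg hkj, sub_self, zero_smul, sub_zero]

theorem phi_surj : Function.Surjective phi := by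
  rw [← MonoidHom.range_eq_top, eq_top_iff, ← Equiv.Perm.closure_isSwap, Subgroup.closure_le]
  rintro _ ⟨i, j, h, rfl⟩
  exact ⟨_, phi_refl h⟩

/-- The stabilizer of the `A₄` in `W` is the symmetric group. -/
noncomputable def phiE : LW I4 ≃* Equiv.Perm (Fin 5) := MulEquiv.ofBijective phi ⟨phi_inj, phi_surj⟩

theorem sign_phi (w : LW I4) : Equiv.Perm.sign (phi w) = det (w : W) := by
  have h : (det.comp ((LW I4).subtype.comp phiE.symm.toMonoidHom)) = Equiv.Perm.sign (α := Fin 5) := by
    apply MonoidHom.eq_of_eqOn_dense Equiv.Perm.closure_isSwap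
    rintro _ ⟨i, j, h, rfl⟩
    rw [Equiv.Perm.sign_swap h]
    have h1 : phiE.symm (Equiv.swap i j) = ⟨refl (isRoot_X_sub h), refl_X_mem h⟩ := by
      rw [MulEquiv.symm_apply_eq]
      exact (phi_refl h).symm
    show det ((phiE.symm (Equiv.swap i j) : LW I4) : W) = -1
    rw [h1]
    exact det_refl _
  rw [← h]
  show det ((phiE.symm (phi w) : LW I4) : W) = _
  have h2 : phiE.symm (phi w) = w := phiE.symm_apply_apply w
  rw [h2]

/-- The inclusion of the stabilizers. -/
def incl : LX I4 →* LW I4 :=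
  (K₀.subtype.comp (LX I4).subtype).codRestrict (LW I4) fun w => mem_LW.2 (mem_LX.1 w.2)

theorem coe_incl (w : LX I4) : (incl w : W) = ((w : ↥K₀) : W) := rfl

/-- The representation of the stabilizer in `K₀`. -/
noncomputable def psi : LX I4 →* Equiv.Perm (Fin 5) := phi.comp incl

theorem psi_inj : Function.Injective psi := by
  refine phi_inj.comp ?_
  intro v w h
  have h1 := congrArg (fun x : LW I4 => (x : W)) h
  apply Subtype.ext
  apply Subtype.ext
  exact h1

theorem psi_range : psi.range = alternatingGroup (Fin 5) := by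
  ext g
  rw [Equiv.Perm.mem_alternatingGroup]
  constructor
  · rintro ⟨w, rfl⟩
    rw [psi, MonoidHom.comp_apply, sign_phi, coe_incl]
    exact mem_K₀.1 w.1.2
  · intro hg
    obtain ⟨w, rfl⟩ := phi_surj g
    rw [sign_phi] at hg
    refine ⟨⟨⟨(w : W), mem_K₀.2 hg⟩, mem_LX.2 (mem_LW.1 w.2)⟩, ?_⟩
    rw [psi, MonoidHom.comp_apply]
    exact congrArg phi (Subtype.ext (coe_incl _))

/-- **The stabilizer of the `A₄` in `W(E₈)'` is the alternating group of degree five.** -/
theorem nonempty_LX : Nonempty (LX {4, 5, 6, 7} ≃* alternatingGroup (Fin 5)) :=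
  ⟨(MonoidHom.ofInjective psi_inj).trans (MulEquiv.subgroupCongr psi_range)⟩

end Cfsg.Agent.H88.RIM
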